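import Mathlib
import Cfsg.Agent.Base
import Cfsg.Agent.Lib.KGT.Four
import Cfsg.Agent.Lib.Zsig.Large
import Cfsg.Agent.S0205

/-! Transitive linear groups of coprime order: the class number bound. -/

set_option autoImplicit false

namespace H81.TV

open Subgroup Module H82 H35L Cfsg

variable {G : Type*} [Group G] [Finite G] {p : ℕ} [hp : Fact p.Prime] {V : Type*} [AddCommGroup V]
  [Module (ZMod p) V] [Finite V] [Nontrivial V] {ρ : G →* End (ZMod p) V}

theorem five_pow (j : ℕ) : 2 * (j + 7) * (j + 8) * (2 * j + 15) < 5 ^ (j + 5) := by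
  induction j with
  | zero => norm_num
  | succ j ih => rw [show j + 1 + 5 = j + 5 + 1 by ring, pow_succ]; nlinarith [Nat.zero_le (j ^ 3), Nat.zero_le (j ^ 2)]

theorem arith2 {p n M : ℕ} (hp : p.Prime) (hn : 3 ≤ n) (h1 : (n + 1).Prime) (h2 : (2 * n + 1).Prime)
    (hM : 2 * M = (2 * n + 1) * (2 * n) * (2 * n + 2)) (hpM : ¬ p ∣ M) (h : p ^ n - 1 ≤ (p ^ 2 - 1) * M) :
    p = 5 ∧ n = 6 := by
  have e : M = 2 * n * (n + 1) * (2 * n + 1) := by nlinarith
  have h3 : 3 ∣ M := (by norm_num : Nat.Coprime 3 2).dvd_of_dvd_mul_left (hM ▸ three_dvd (2 * n + 1))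
  have h5 : 5 ≤ p := hp.five_le_of_ne_two_of_ne_three (by rintro rfl; exact hpM ⟨n * (n + 1) * (2 * n + 1), by
    rw [e]; ring⟩) (by rintro rfl; exact hpM h3)
  obtain ⟨j, rfl⟩ := Nat.exists_eq_add_of_le' (show 2 ≤ n by omega)
  have h6 : p ^ j < M := by
    by_contra hc
    have h7 := Nat.mul_le_mul_left (p ^ 2 - 1) (not_lt.1 hc)
    have h8 : 1 < p ^ j := Nat.one_lt_pow (by omega) hp.one_lt
    have h9 : 0 < p ^ 2 := pow_pos hp.pos 2
    rw [Nat.sub_one_mul (p ^ 2) (p ^ j), ← pow_add, add_comm 2] at h7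
    have : p ^ j ≤ p ^ (j + 2) := Nat.pow_le_pow_right hp.pos (by omega)
    omega
  have h7 := (Nat.pow_le_pow_left h5 j).trans_lt h6
  by_cases h8 : 5 ≤ j
  · obtain ⟨i, rfl⟩ := Nat.exists_eq_add_of_le' h8
    have := five_pow i
    rw [e] at h7
    exact absurd (h7.trans_eq (by ring)) this.not_gt
  · have h9 : j = 4 := by
      have : 1 ≤ j := by omega
      have : j < 5 := by omega
      interval_cases j <;> first | rfl | exact absurd h1 (by decide) | exact absurd h2 (by decide)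
    subst h9
    refine ⟨?_, rfl⟩
    by_contra h10
    have : 6 ^ 4 ≤ p ^ 4 := Nat.pow_le_pow_left (by omega) 4
    omega

theorem six (h : TrRep ρ) (hG : ¬ p ∣ Nat.card G) (hΓ : ¬ Gam ρ) (hn : finrank (ZMod p) V = 6)
    (hp' : p = 3 ∨ p = 5) : False := by
  have : Fact (Nat.Prime 7) := ⟨by norm_num⟩
  have hd : Ppd p (finrank (ZMod p) V) 7 := by
    rw [hn]
    rcases hp' with rfl | rfl
    all_goals exact ⟨by norm_num, fun k h1 h2 h3 => by interval_cases k <;> simp_all⟩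
  obtain ⟨χ, m, h1, hm, hmn, hf⟩ := exists_char hG ρ h.inj
  have key : ∀ s : ℕ, s.Prime → s ∣ p ^ 6 - 1 → 12 < s → (13 < s ∨ ¬ 3 ∣ Nat.card G) → s ∣ p ^ 2 - 1 := by
    intro s hs s1 s2 s3
    have := Fact.mk hs
    obtain ⟨P⟩ : Nonempty (Sylow s G) := inferInstance
    have := (pcl_of_deg (s := s) h1 hf hm hmn (by omega) (by omega) (by omega)).normal P
    obtain ⟨z, z1, z2, z3⟩ := H5.exists_mem_centralizer_orderOf_eq P.isPGroup' le_rfl le_normalizer
      (P.ne_bot_of_dvd_card ((hn ▸ s1).trans h.card_dvd))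
    refine (z3 ▸ H1.orderOf_dvd_card_of_mem (mem_inf.2 ⟨z1, z2⟩)).trans ?_
    rcases hd.small h hΓ hG _ (isMulCommutative_inf_centralizer (P : Subgroup G)) with e | e
    · exact e.trans (by simpa using Nat.pow_sub_one_dvd_pow_sub_one p (one_dvd 2))
    · exact e.1
  rcases hp' with rfl | rfl
  · exact absurd (key 13 (by norm_num) (by norm_num) (by norm_num) (.inr hG)) (by norm_num)
  · exact absurd (key 31 (by norm_num) (by norm_num) (by norm_num) (by norm_num)) (by norm_num)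

theorem big (h : TrRep ρ) (hG : ¬ p ∣ Nat.card G) (hΓ : ¬ Gam ρ) (hn : 2 < finrank (ZMod p) V) :
    p = 3 ∧ finrank (ZMod p) V = 4 := by
  by_cases h2 : p = 2
  · subst h2
    have := Cfsg.Agent.S0205.result (G := G) (Nat.odd_iff.2 (by omega))
    rcases h.huppert hΓ with e | e <;> omega
  by_contra hne
  have h6 : ¬ ((p = 3 ∨ p = 5) ∧ finrank (ZMod p) V = 6) := fun e => six h hG hΓ e.2 e.1
  obtain ⟨m, ⟨m1, m2⟩, m3⟩ := H76.Zs.exists_prim_large hp.out.one_lt hn (by
    have h4 : p ≠ 4 := by rintro rfl; exact absurd hp.out (by norm_num)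
    simp only [H76.Zs.exc, List.mem_cons, Prod.mk.injEq, List.not_mem_nil, or_false]
    omega)
  obtain ⟨χ, d, h1, hm, hmn, hf⟩ := exists_char hG ρ h.inj
  set n := finrank (ZMod p) V with hnd
  have key : ∀ r : ℕ, r.Prime → r ∣ m → Ppd p n r ∧ (r = n + 1 ∨ r = 2 * n + 1) := fun r hr hrm => by
    have := Fact.mk hr
    have hd : Ppd p n r := ⟨hrm.trans m1, fun k k1 k2 k3 => by
      by_contra k4
      exact hr.not_dvd_one (m2 k k1 (by omega) ▸ Nat.dvd_gcd hrm k3)⟩
    refine ⟨hd, ?_⟩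
    obtain ⟨P⟩ : Nonempty (Sylow r G) := inferInstance
    have h3 : r ≤ 2 * n + 1 := by
      by_contra h3
      exact hd.not_normal h hΓ P ((pcl_of_deg (s := r) h1 hf hm hmn (by omega) (by omega) (by omega)).normal P)
    obtain ⟨c, hc⟩ := hd.dvd hr (by omega)
    have := hr.one_lt
    rcases c with _ | _ | _ | c
    · omega
    · omega
    · omega
    · have : n * 3 ≤ n * (c + 1 + 1 + 1) := Nat.mul_le_mul_left _ (by omega)
      omega
  obtain ⟨r, hr, u, rfl⟩ := Nat.exists_prime_and_dvd (n := m) (by omega)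
  obtain ⟨r1, r2⟩ := key r hr (dvd_mul_right _ _)
  obtain ⟨s, hs, v, rfl⟩ := Nat.exists_prime_and_dvd (n := u) (by rintro rfl; omega)
  obtain ⟨s1, s2⟩ := key s hs ((dvd_mul_right _ _).mul_left _)
  have hrs : r ≠ s := by
    rintro rfl
    have := Fact.mk hr
    exact r1.not_sq h hΓ hG ((Dvd.intro v (by ring)).trans (m1.trans h.card_dvd))
  obtain ⟨p1, p2, hd⟩ : (n + 1).Prime ∧ (2 * n + 1).Prime ∧ Ppd p n (2 * n + 1) := by
    rcases r2 with rfl | rfl <;> rcases s2 with rfl | rfl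
    · exact absurd rfl hrs
    · exact ⟨hr, hs, s1⟩
    · exact ⟨hs, hr, r1⟩
    · exact absurd rfl hrs
  have := Fact.mk p2
  obtain ⟨-, ⟨e⟩⟩ := H88.Mod.brauer_small_char (hd.1.trans h.card_dvd) (hd.not_sq h hΓ hG) (fun H _ hH => by
    rw [hd.eq_bot h hΓ (N := H) (IsPGroup.of_card (n := 1) (by rw [hH, pow_one])), card_bot] at hH
    omega) h1 hf (by rw [charDegree_eq hm]; omega)
  have e1 := card_of_psl (by omega) e
  have e2 := (center G).card_mul_index
  have e3 : 2 * (center G).index = (2 * n + 1) * (2 * n) * (2 * n + 2) :=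
    Nat.eq_of_mul_eq_mul_left (Nat.card_pos (α := center G)) (by rw [mul_left_comm, e2, e1]; rfl)
  have e4 : Nat.card (center G) ∣ p ^ 2 - 1 := by
    rcases hd.small h hΓ hG (center G) inferInstance with e | e
    · exact e.trans (by simpa using Nat.pow_sub_one_dvd_pow_sub_one p (one_dvd 2))
    · exact e.1
  have := arith2 hp.out hn p1 p2 e3 (fun e => hG (e.trans (index_dvd_card _)))
    ((Nat.le_of_dvd Nat.card_pos h.card_dvd).trans (e2 ▸ Nat.mul_le_mul_right _ (Nat.le_of_dvd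
      (Nat.sub_pos_of_lt (Nat.one_lt_pow two_ne_zero hp.out.one_lt)) e4)))
  exact h6 ⟨.inr this.1, this.2⟩

theorem con (h : TrRep ρ) (hG : ¬ p ∣ Nat.card G) {a : ℕ} (ha : Nat.card G = (p ^ finrank (ZMod p) V - 1) * a) :
    Con G (p ^ finrank (ZMod p) V) a := by
  by_cases hΓ : Gam ρ
  · exact gam h hG hΓ ha
  have h0 := finrank_V_pos (q := p) (V := V)
  have h1 : finrank (ZMod p) V ≠ 1 := fun e => hΓ (gam_one h e)
  left
  by_cases h2 : finrank (ZMod p) V = 2
  · rw [h2] at ha ⊢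
    exact two h hG hΓ h2 ha
  obtain ⟨rfl, h4⟩ := big h hG hΓ (by omega)
  have := four h hG hΓ h4
  rw [h4] at ha ⊢
  omega

end H81.TV
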