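import Mathlib
import Cfsg.Agent.Base
import Cfsg.Agent.Lib.KGT.Big
import Cfsg.Agent.Lib.SL2.Dickson

/-! Transitive linear groups of coprime order: a lower bound for the class number. -/

set_option autoImplicit false

namespace H81.TV

open Subgroup Module H82 H35L Cfsg
open scoped MatrixGroups

variable {G : Type*} [Group G] [Finite G]

theorem cc_ge (Z : Subgroup G) [Z.Normal] (hZ : Z ≤ center G) (T : Finset (G ⧸ Z)) (hT : ∀ q ∈ T, q ^ 2 ≠ 1) :
    Nat.card Z * (3 * Z.index + T.card) ≤ Nat.card (ConjClasses G) * Z.index + 2 * Nat.card Z := by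
  classical
  have := Fintype.ofFinite G
  have := Fintype.ofFinite (G ⧸ Z)
  have e := card_conjClasses_mul_card (G := G)
  let w : G ⧸ Z → ℕ := fun q => (if q = 1 then Z.index else 0) + (if q ∈ ({1}ᶜ : Finset _) then 2 else 0) +
    if q ∈ T then 1 else 0
  have h1 : ∑ x : G, Nat.card Z * w x ≤ ∑ x : G, Nat.card (centralizer ({x} : Set G)) := by
    refine Finset.sum_le_sum fun x _ => ?_
    by_cases hx : (x : G ⧸ Z) = 1
    · have h2 : (1 : G ⧸ Z) ∉ T := fun h => hT _ h (one_pow 2)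
      rw [centralizer_eq_top_iff_subset.2 (Set.singleton_subset_iff.2 (hZ ((QuotientGroup.eq_one_iff x).1 hx))),
        card_top, ← Z.card_mul_index]
      simp [w, hx, h2]
    rw [← H1.card_mul_relIndex_of_le (hZ.trans (center_le_centralizer {x}))]
    refine Nat.mul_le_mul_left _ (le_trans ?_ (Nat.le_of_dvd (Nat.pos_of_ne_zero
      (FiniteIndex.index_ne_zero (H := subgroupOf _ _))) (m := orderOf (x : G ⧸ Z)) ?_))
    · have h3 : orderOf (x : G ⧸ Z) ≠ 1 := by simpa using hx
      have h4 := orderOf_pos (x : G ⧸ Z)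
      by_cases h5 : (x : G ⧸ Z) ∈ T
      · have h6 : orderOf (x : G ⧸ Z) ≠ 2 := fun h => hT _ h5 (h ▸ pow_orderOf_eq_one _)
        simp only [w, hx, h5, Finset.mem_compl, Finset.mem_singleton, if_true, if_false, not_false_eq_true]
        omega
      · simp only [w, hx, h5, Finset.mem_compl, Finset.mem_singleton, if_true, if_false, not_false_eq_true]
        omega
    · refine orderOf_dvd_of_pow_eq_one ?_
      rw [← QuotientGroup.mk_pow, QuotientGroup.eq_one_iff]
      exact pow_index_mem (H := Z.subgroupOf (centralizer {x})) ⟨x, mem_centralizer_singleton_iff.2 rfl⟩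
  have h2 : ∑ x : G, w x = Nat.card Z * ∑ q, w q := by
    rw [← Finset.sum_fiberwise Finset.univ (fun x : G => (x : G ⧸ Z)), Finset.mul_sum]
    refine Finset.sum_congr rfl fun q _ => ?_
    rw [Finset.sum_congr rfl fun x hx => congrArg w (Finset.mem_filter.1 hx).2, Finset.sum_const, smul_eq_mul]
    congr 1
    have := QuotientGroup.card_preimage_mk Z {q}
    rw [Nat.card_unique (α := ({q} : Set _)), mul_one, Nat.card_eq_fintype_card, Fintype.card_subtype] at this
    simpa using this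
  have h3 : ∑ q, w q + 2 = 3 * Z.index + T.card := by
    have : 0 < Fintype.card (G ⧸ Z) := Fintype.card_pos
    simp only [w, Finset.sum_add_distrib, Finset.sum_ite_eq', Finset.mem_univ, if_true, Finset.sum_ite_mem,
      Finset.univ_inter, Finset.sum_const, smul_eq_mul, Finset.card_compl, Finset.card_singleton, index_eq_card,
      Nat.card_eq_fintype_card]
    omega
  rw [← Finset.mul_sum, h2, ← e, ← Z.card_mul_index, mul_left_comm (Nat.card (ConjClasses G))] at h1
  have := Nat.le_of_mul_le_mul_left h1 Nat.card_pos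
  rw [← h3, mul_add]
  omega

theorem three_le (h : 2 < Nat.card G) : 3 ≤ Nat.card (ConjClasses G) := by
  have := cc_ge (G := G) ⊥ bot_le ∅ (by simp)
  rw [card_bot, index_bot, Finset.card_empty] at this
  by_contra hc
  have := Nat.mul_le_mul_right (Nat.card G) (show Nat.card (ConjClasses G) ≤ 2 by omega)
  omega

theorem cc_perm_four : Nat.card (ConjClasses (Equiv.Perm (Fin 4))) = 5 := by
  have := card_comm_eq_card_conjClasses_mul_card (Equiv.Perm (Fin 4))
  have h : Fintype.card {p : Equiv.Perm (Fin 4) × Equiv.Perm (Fin 4) // p.1 * p.2 = p.2 * p.1} = 120 := by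
    decide +kernel
  rw [← Nat.card_eq_fintype_card] at h
  rw [Nat.card_perm, Nat.card_eq_fintype_card (α := Fin 4), Fintype.card_fin, show Nat.factorial 4 = 24 from rfl] at this
  have := h.symm.trans this
  omega

theorem sq_le_five_pow (j : ℕ) : (j + 2) ^ 2 ≤ 5 ^ (j + 1) := by
  induction j with
  | zero => norm_num
  | succ j ih => rw [pow_succ 5 (j + 1)]; generalize 5 ^ (j + 1) = x at *; nlinarith [Nat.zero_le (j * j), Nat.zero_le j]

variable {p : ℕ} [hp : Fact p.Prime] {V : Type*} [AddCommGroup V]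
  [Module (ZMod p) V] [Finite V] [Nontrivial V] {ρ : G →* End (ZMod p) V}

theorem low_gam (h : TrRep ρ) (hΓ : Gam ρ) (h5 : 5 ≤ p) (hn : finrank (ZMod p) V ≠ 1) :
    p ≤ Nat.card (ConjClasses G) := by
  obtain ⟨A, _, hA, hI⟩ := hΓ
  have h0 := finrank_V_pos (q := p) (V := V)
  have hC := h.comm_centralizer hA.isMulCommutative hI
  obtain ⟨k, k1, -, -, k2, -⟩ := h.exists_deg A hA.isMulCommutative
  have h1 := card_conjClasses_subgroup_le (centralizer (A : Set G))
  rw [KR.card_cc_of_comm fun x y => hC.is_comm.comm x y] at h1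
  have h2 := Nat.le_of_dvd Nat.card_pos h.card_dvd
  have h3 := Nat.le_of_dvd h0 (k2.trans k1)
  rw [← (centralizer (A : Set G)).card_mul_index] at h2
  obtain ⟨j, hj⟩ := Nat.exists_eq_add_of_le' (show 2 ≤ finrank (ZMod p) V by omega)
  rw [hj] at h2 h3
  have h4 := (sq_le_five_pow j).trans (Nat.pow_le_pow_left h5 _)
  by_contra hc
  have h6 := h2.trans (Nat.mul_le_mul (h1.trans (Nat.mul_le_mul h3 (show _ ≤ p - 1 by omega))) h3)
  have h7 : 1 < p ^ (j + 1) := Nat.one_lt_pow (by omega) hp.out.one_lt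
  have h8 := Nat.mul_le_mul_right (p - 1) h4
  rw [mul_right_comm, ← pow_two, pow_succ p] at h6
  rw [Nat.mul_sub_one (p ^ (j + 1))] at h8
  have : p ^ (j + 1) ≤ p ^ (j + 1) * p := Nat.le_mul_of_pos_right _ hp.out.pos
  omega

theorem exists_pgl (h : TrRep ρ) (hΓ : ¬ Gam ρ) (hn : finrank (ZMod p) V = 2) :
    ∃ f : G →* PGL(2, AlgebraicClosure (ZMod p)), f.ker = center G := by
  let b := finBasisOfFinrankEq (ZMod p) V hn
  let φ := algebraMap (ZMod p) (AlgebraicClosure (ZMod p))
  let σ : G →* Matrix (Fin 2) (Fin 2) (AlgebraicClosure (ZMod p)) :=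
    (φ.mapMatrix.toMonoidHom.comp (LinearMap.toMatrixAlgEquiv b).toMonoidHom).comp ρ
  have hσ : Function.Injective σ := fun x y e =>
    h.inj ((LinearMap.toMatrixAlgEquiv b).injective (Matrix.map_injective φ.injective e))
  refine ⟨Matrix.ProjGenLinGroup.mk.comp σ.toHomUnits, le_antisymm (fun z hz => ?_) fun z hz => ?_⟩
  · obtain ⟨s, -, hs⟩ := H29.pgl_mk_eq_mk_iff.1 ((map_one _).trans (MonoidHom.mem_ker.1 hz).symm)
    have hs : σ z = s • 1 := hs
    exact mem_center_iff.2 fun g => hσ (by simp [hs])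
  · obtain ⟨a, ha⟩ : ∃ a : ZMod p, ρ z = a • 1 := by
      refine (ρ z).exists_eq_smul_id_of_forall_notLinearIndependent fun v hv => hΓ ?_
      have := comm_cent h.inj (A := zpowers z) inferInstance (v := v) (by
        rw [← LinearMap.range_eq_top, eq_top_iff, ← hv.span_eq_top_of_card_eq_finrank' (by simp [hn]),
          Submodule.span_le]
        rintro _ ⟨i, rfl⟩
        fin_cases i
        · exact ⟨1, rfl⟩
        · exact ⟨⟨ρ z, mem_fld (mem_zpowers z)⟩, rfl⟩)
      rw [centralizer_eq_top_iff_subset.2 (zpowers_le.2 hz)] at this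
      exact h.gam_of_centralizer_le ⊤ this le_top
    have h1 : σ z = φ a • 1 := by
      change φ.mapMatrix (LinearMap.toMatrixAlgEquiv b (ρ z)) = _
      rw [ha, map_smul, map_one]
      ext i j
      by_cases hij : i = j <;> simp [Matrix.one_apply, hij]
    refine ((map_one Matrix.ProjGenLinGroup.mk).symm.trans (H29.pgl_mk_eq_mk_iff.2 ⟨φ a, fun e => ?_, h1⟩)).symm
    rw [e, zero_smul] at h1
    exact (σ.toHomUnits z).ne_zero h1

theorem arith3 {p z m k t : ℕ} (hp : p.Prime) (h5 : 5 ≤ p) (hz : z ∣ p - 1) (hm : p ^ 2 - 1 ∣ z * m) (hpm : ¬ p ∣ m)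
    (h : z * (3 * m + t) ≤ k * m + 2 * z) (h' : m = 12 ∨ (m = 24 ∧ 3 ≤ t ∧ 5 ≤ k) ∨ (m = 60 ∧ 3 ≤ t)) :
    p ≤ k ∨ (p = 11 ∧ z = 2 ∧ m = 60) := by
  obtain ⟨u, hu⟩ := hz
  have z0 : 0 < z := Nat.pos_of_ne_zero (by rintro rfl; omega)
  have h1 : (p + 1) * u ∣ m := Nat.dvd_of_mul_dvd_mul_left z0 (by
    rwa [mul_left_comm, ← hu, ← Nat.sq_sub_sq p 1])
  by_cases h2 : u ≤ 2
  · left
    have := Nat.mul_le_mul_left z h2
    rw [mul_add] at h
    rcases h' with rfl | ⟨rfl, -⟩ | ⟨rfl, -⟩ <;> omega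
  have h3 := Nat.le_of_dvd (by omega) h1
  have h4 := Nat.mul_le_mul_left (p + 1) (show 3 ≤ u by omega)
  have h6 := Nat.mul_le_mul_right u (show 6 ≤ p + 1 by omega)
  have h7 : p ≤ 19 := by omega
  have h8 : u ≤ 10 := by omega
  rw [mul_add] at h
  have h9 : 3 ≤ t → z * 3 ≤ z * t := Nat.mul_le_mul_left z
  rcases h' with rfl | ⟨rfl, h10, h11⟩ | ⟨rfl, h10⟩
  · omega
  all_goals
    have := h9 h10
    interval_cases p <;> first | exact absurd hp (by decide) | (interval_cases u <;> omega)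

theorem low (h : TrRep ρ) (hG : ¬ p ∣ Nat.card G) (hn : finrank (ZMod p) V ≠ 1) : p ≤ Nat.card (ConjClasses G) ∨
    (p = 11 ∧ finrank (ZMod p) V = 2 ∧ Nat.card G = 120 ∧ ¬ Group.IsSolvable G) := by
  have h0 := finrank_V_pos (q := p) (V := V)
  by_cases h5 : p < 5
  · have h1 := Nat.le_of_dvd Nat.card_pos h.card_dvd
    have h2 : 2 ^ 2 ≤ p ^ finrank (ZMod p) V :=
      (Nat.pow_le_pow_left hp.out.two_le 2).trans (Nat.pow_le_pow_right hp.out.pos (by omega))
    have h3 := three_le (G := G) (by omega)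
    have h4 : p ≠ 4 := by rintro rfl; exact absurd hp.out (by norm_num)
    left; omega
  by_cases hΓ : Gam ρ
  · exact .inl (low_gam h hΓ (by omega) hn)
  have h2 : finrank (ZMod p) V = 2 := by
    by_contra h2
    have := (big h hG hΓ (by omega)).1
    omega
  have ab : ∀ A : Subgroup G, A.Normal → IsMulCommutative A → A ≤ center G ∧ Nat.card A ∣ p - 1 := fun A _ hA => by
    obtain ⟨k, k1, k2, k3, -, -, k4, k5⟩ := h.exists_deg A hA
    rw [h2] at k1 k4
    obtain rfl := ((Nat.dvd_prime Nat.prime_two).1 k1).resolve_right fun e => hΓ ⟨_, inferInstance, k2, k4 e⟩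
    exact ⟨k5 rfl, by simpa using k3⟩
  obtain ⟨f, hf⟩ := exists_pgl h hΓ h2
  let e0 : G ⧸ center G ≃* f.range := (QuotientGroup.quotientMulEquivOfEq hf.symm).trans
    (QuotientGroup.quotientKerEquivRange f)
  have : Finite f.range := Finite.of_equiv _ e0.toEquiv
  have hi : ¬ p ∣ (center G).index := fun e => hG (e.trans (index_dvd_card _))
  have key := fun T hT => arith3 hp.out (by omega) (ab (center G) inferInstance inferInstance).2
    (h2 ▸ h.card_dvd.trans (center G).card_mul_index.symm.dvd) hi (cc_ge (center G) le_rfl T hT)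
  have fin : ∀ {Q : Type} [Group Q] (e : G ⧸ center G ≃* Q) (T : Finset Q), (∀ q ∈ T, q ^ 2 ≠ 1) →
      (Nat.card Q = 12 ∨ (Nat.card Q = 24 ∧ 3 ≤ T.card ∧ 5 ≤ Nat.card (ConjClasses Q)) ∨
        (Nat.card Q = 60 ∧ 3 ≤ T.card)) → p ≤ Nat.card (ConjClasses G) ∨
          (p = 11 ∧ Nat.card (center G) = 2 ∧ Nat.card Q = 60) := fun {Q} _ e T h1 h3 => by
    have e1 : (center G).index = Nat.card Q := Nat.card_congr e.toEquiv
    have e2 := KR.card_cc_le_of_surjective (e.toMonoidHom.comp (QuotientGroup.mk' _))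
      (e.surjective.comp (QuotientGroup.mk'_surjective _))
    rw [← e1] at h3 ⊢
    refine key (T.map e.symm.toEquiv.toEmbedding) (fun q hq e3 => ?_) (by rw [Finset.card_map]; omega)
    obtain ⟨r, hr, rfl⟩ := Finset.mem_map.1 hq
    exact h1 r hr (e.symm.injective (by rw [map_pow, map_one]; exact e3))
  rcases H29.dickson_tame p f.range (by rwa [← Nat.card_congr e0.toEquiv]) with
    e | ⟨k, k2, -, ⟨e⟩⟩ | ⟨⟨e⟩⟩ | ⟨⟨e⟩⟩ | ⟨⟨e⟩⟩
  · have := f.rangeRestrict.isMulCommutative_of_isCyclic_of_ker_le_center (by rw [MonoidHom.ker_rangeRestrict, hf])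
    exact absurd (h.gam_of_centralizer_le ⊤ inferInstance le_top) hΓ
  · let φ : G →* DihedralGroup k := e.toMonoidHom.comp f.rangeRestrict
    have hφ : φ.ker = center G := by
      rw [← hf, ← f.ker_rangeRestrict]; exact MonoidHom.ker_comp_of_injective f.rangeRestrict e.toMonoidHom e.injective
    have : NeZero k := ⟨by omega⟩
    have hN : (zpowers (DihedralGroup.r 1 : DihedralGroup k)).Normal := normal_of_index_eq_two (by
      have := (zpowers (DihedralGroup.r 1 : DihedralGroup k)).card_mul_index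
      rw [Nat.card_zpowers, DihedralGroup.orderOf_r_one, DihedralGroup.nat_card, mul_comm 2] at this
      exact Nat.eq_of_mul_eq_mul_left (by omega) this)
    obtain ⟨x, hx⟩ := (e.surjective.comp f.rangeRestrict_surjective) (DihedralGroup.r 1)
    have h3 := (ab ((zpowers (DihedralGroup.r 1)).comap φ) inferInstance
      ((φ.subgroupComap _).isMulCommutative_of_isCyclic_of_ker_le_center fun y hy => mem_center_iff.2 fun g =>
        Subtype.ext (mem_center_iff.1 (hφ.le (congrArg Subtype.val hy)) g))).1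
      (show φ x ∈ zpowers _ from hx ▸ mem_zpowers _)
    have h4 : DihedralGroup.r (1 : ZMod k) = 1 := hx.symm.trans (hφ.ge h3)
    have h6 := DihedralGroup.orderOf_r_one (n := k)
    rw [h4, orderOf_one] at h6
    omega
  · have c : Nat.card (alternatingGroup (Fin 4)) = 12 := by
      rw [nat_card_alternatingGroup, Nat.card_eq_fintype_card, Fintype.card_fin]; rfl
    exact .inl ((fin (e0.trans e) ∅ (by simp) (.inl c)).resolve_right (by omega))
  · have c : Nat.card (Equiv.Perm (Fin 4)) = 24 := by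
      rw [Nat.card_perm, Nat.card_eq_fintype_card, Fintype.card_fin]; rfl
    exact .inl ((fin (e0.trans e) {Equiv.swap 0 1 * Equiv.swap 1 2, Equiv.swap 0 1 * Equiv.swap 1 3,
      Equiv.swap 0 2 * Equiv.swap 2 3} (by decide) (.inr (.inl ⟨c, by decide, cc_perm_four.ge⟩))).resolve_right
      (by omega))
  · have c : Nat.card (alternatingGroup (Fin 5)) = 60 := by
      rw [nat_card_alternatingGroup, Nat.card_eq_fintype_card, Fintype.card_fin]; rfl
    obtain ⟨x, y, z, x1, x2, x3⟩ : ∃ x y z : alternatingGroup (Fin 5), (∀ q ∈ ({x, y, z} : Finset _), q ^ 2 ≠ 1) ∧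
        3 ≤ ({x, y, z} : Finset _).card ∧ x * y ≠ y * x :=
      ⟨⟨Equiv.swap 0 1 * Equiv.swap 1 2, Equiv.Perm.mem_alternatingGroup.2 (by decide)⟩,
        ⟨Equiv.swap 0 1 * Equiv.swap 1 3, Equiv.Perm.mem_alternatingGroup.2 (by decide)⟩,
        ⟨Equiv.swap 0 2 * Equiv.swap 2 3, Equiv.Perm.mem_alternatingGroup.2 (by decide)⟩, by decide⟩
    refine (fin (e0.trans e) {x, y, z} x1 (.inr (.inr ⟨c, x2⟩))).imp_right fun ⟨a1, a2, _⟩ => ⟨a1, h2, ?_, fun _ => ?_⟩
    · rw [← (center G).card_mul_index, a2, index_eq_card, Nat.card_congr (e0.trans e).toEquiv, c]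
    · have := solvable_of_surjective (f := e.toMonoidHom.comp f.rangeRestrict)
        (e.surjective.comp f.rangeRestrict_surjective)
      exact x3 (IsSimpleGroup.comm_iff_isSolvable.2 this x y)

end H81.TV
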