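import Mathlib
import Cfsg.Agent.Base
import Cfsg.Agent.Lib.KGT.Low
import Cfsg.Agent.Lib.KGT.SL25
import Cfsg.Agent.Lib.FrobC.Perfect
import Cfsg.Agent.Lib.Comp.PConstrained

/-! Groups with one class of nontrivial `p`-elements: the affine case. -/

set_option autoImplicit false

namespace H81.TV

open Subgroup Module H82 Cfsg
open scoped MatrixGroups Pointwise

variable {X : Type*} [Group X] [Finite X] {p : ℕ} [hp : Fact p.Prime]

/-- classes of `p`-regular elements -/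
abbrev PR (p : ℕ) (G : Type*) [Group G] := {c : ConjClasses G // ∃ g : G, ConjClasses.mk g = c ∧ ¬ p ∣ orderOf g}

/-- all nontrivial `p`-elements are conjugate -/
def OneCl (p : ℕ) (G : Type*) [Group G] : Prop :=
  ∀ x y : G, x ≠ 1 → y ≠ 1 → (∃ k : ℕ, orderOf x = p ^ k) → (∃ k : ℕ, orderOf y = p ^ k) → IsConj x y

/-- the coprime affine situation, transitive case -/
structure Aff (p : ℕ) (V H : Subgroup X) : Prop where
  exp : ∀ v ∈ V, v ^ p = 1
  self : centralizer (V : Set X) = V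
  ne : V ≠ ⊥
  cpl : IsComplement' V H
  ndvd : ¬ p ∣ Nat.card H
  trans : ∀ v ∈ V, ∀ w ∈ V, v ≠ 1 → w ≠ 1 → ∃ g ∈ H, g * v * g⁻¹ = w

theorem exists_aff (hs : IsPSolvable p X) (hO : pPrimeCore p X = ⊥) (hd : p ∣ Nat.card X) (hc : OneCl p X) :
    ∃ V H : Subgroup X, V.Normal ∧ Aff p V H := by
  have h1 := H23.centralizer_pCore_le_of_isPSolvable hs hO
  have hP := H1.isPGroup_pCore (p := p) (G := X)
  set V := pCore p X
  have hne : V ≠ ⊥ := fun e => by
    have : (⊤ : Subgroup X) = ⊥ := le_bot_iff.1 fun x _ => e ▸ h1 (e ▸ mem_centralizer_bot x)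
    rw [← card_top, this, card_bot] at hd
    exact hp.out.not_dvd_one hd
  obtain ⟨z, z1, z2, z3⟩ := H5.exists_mem_centralizer_orderOf_eq hP le_rfl le_normalizer hne
  have key : ∀ x : X, (∃ k, x ^ p ^ k = 1) → x ∈ centralizer (V : Set X) ∧ x ^ p = 1 := fun x ⟨k, hk⟩ => by
    by_cases x1 : x = 1
    · simp [x1]
    obtain ⟨j, -, hj⟩ := (Nat.dvd_prime_pow hp.out).1 (orderOf_dvd_of_pow_eq_one hk)
    obtain ⟨g, rfl⟩ := isConj_iff.1 (hc z x (by rintro rfl; exact hp.out.one_lt.ne (by simpa using z3)) x1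
      ⟨1, by rw [z3, pow_one]⟩ ⟨j, hj⟩)
    exact ⟨Normal.conj_mem inferInstance _ z2 g, by rw [conj_pow, ← z3, pow_orderOf_eq_one]; simp⟩
  have k2 : ∀ v ∈ V, v ∈ centralizer (V : Set X) ∧ v ^ p = 1 := fun v hv =>
    key v ((hP ⟨v, hv⟩).imp fun k hk => congrArg Subtype.val hk)
  have hi : ¬ p ∣ V.index := fun h => by
    obtain ⟨y, hy⟩ := exists_prime_orderOf_dvd_card' (G := X ⧸ V) p h
    obtain ⟨x, rfl⟩ := QuotientGroup.mk_surjective y
    have h2 : x ^ p ∈ V := by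
      rw [← QuotientGroup.eq_one_iff, QuotientGroup.mk_pow]; exact orderOf_dvd_iff_pow_eq_one.1 hy.dvd
    rw [(QuotientGroup.eq_one_iff x).2 (h1 (key x ⟨2, by rw [pow_two, pow_mul, (k2 _ h2).2]⟩).1), orderOf_one] at hy
    exact hp.out.one_lt.ne hy
  obtain ⟨r, hr⟩ := hP.exists_card_eq
  obtain ⟨H, hH⟩ := exists_right_complement'_of_coprime (N := V)
    (hr ▸ (hp.out.coprime_iff_not_dvd.2 hi).pow_left r)
  refine ⟨V, H, inferInstance, fun v hv => (k2 v hv).2, le_antisymm h1 fun v hv => (k2 v hv).1, hne, hH,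
    hH.symm.index_eq_card ▸ hi, fun v hv w hw v1 w1 => ?_⟩
  obtain ⟨g, rfl⟩ := isConj_iff.1 (hc v w v1 w1 ⟨1, by rw [orderOf_eq_prime (k2 v hv).2 v1, pow_one]⟩
    ⟨1, by rw [orderOf_eq_prime (k2 w hw).2 w1, pow_one]⟩)
  obtain ⟨⟨u, h⟩, rfl, -⟩ := hH.existsUnique g
  refine ⟨h, h.2, ?_⟩
  have := (k2 _ (Normal.conj_mem inferInstance v hv h)).1 u u.2
  rw [← mul_inv_eq_iff_eq_mul] at this
  rw [← this]
  group

variable {V H : Subgroup X} [V.Normal]

omit [Finite X] hp in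
theorem Aff.eq_one (h : Aff p V H) {x : X} (h1 : x ∈ V) (h2 : x ∈ H) : x = 1 := disjoint_def.1 h.cpl.disjoint h1 h2

theorem Aff.coprime (h : Aff p V H) {n : ℕ} (hn : ¬ p ∣ n) : (Nat.card V).Coprime n := by
  obtain ⟨r, hr⟩ := (H3.isPGroup_of_pow_eq_one h.exp).exists_card_eq
  exact hr ▸ (hp.out.coprime_iff_not_dvd.2 hn).pow_left r

theorem Aff.exists_conj (h : Aff p V H) {x : X} (hx : ¬ p ∣ orderOf x) : ∃ e, e * x * e⁻¹ ∈ H := by
  obtain ⟨e, -, he⟩ := H3.exists_conj_le_of_coprime (N := V) (H := zpowers x) (K := H) le_normalizer_of_normal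
    (h.cpl.sup_eq_top ▸ le_top) (h.coprime (by rwa [Nat.card_zpowers])) (h.coprime h.ndvd)
    (.inr (H2.isSolvable_zpowers x))
  exact ⟨e, he (H3.conj_mem_conj_smul e (mem_zpowers x))⟩

theorem Aff.card_PR (h : Aff p V H) : Nat.card (PR p X) = Nat.card (ConjClasses H) := by
  refine (Nat.card_eq_of_bijective (fun c : ConjClasses H => (⟨ConjClasses.map H.subtype c, by
    obtain ⟨a, rfl⟩ := ConjClasses.mk_surjective c
    exact ⟨a, rfl, fun e => h.ndvd (e.trans (H1.orderOf_dvd_card_of_mem a.2))⟩⟩ : PR p X)) ⟨fun c d e => ?_, ?_⟩).symm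
  · obtain ⟨a, rfl⟩ := ConjClasses.mk_surjective c
    obtain ⟨b, rfl⟩ := ConjClasses.mk_surjective d
    obtain ⟨g, hg⟩ := isConj_iff.1 (ConjClasses.mk_eq_mk_iff_isConj.1 (congrArg Subtype.val e))
    obtain ⟨⟨u, k⟩, rfl, -⟩ := h.cpl.existsUnique g
    refine ConjClasses.mk_eq_mk_iff_isConj.2 (isConj_iff.2 ⟨k, ?_⟩)
    have h1 : (b : X) * ((k * a * k⁻¹ : H) : X)⁻¹ = u * ((k * a * k⁻¹ : H) * (u : X)⁻¹ * ((k * a * k⁻¹ : H) : X)⁻¹) := by
      rw [show (b : X) = _ from hg.symm]; simp [mul_assoc]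
    exact Subtype.ext (mul_inv_eq_one.1 (h.eq_one (h1 ▸ mul_mem u.2 (Normal.conj_mem ‹_› _ (inv_mem u.2) _))
      (mul_mem b.2 (inv_mem (k * a * k⁻¹).2)))).symm
  · rintro ⟨_, g, rfl, hg⟩
    obtain ⟨e, he⟩ := h.exists_conj hg
    exact ⟨ConjClasses.mk ⟨_, he⟩, Subtype.ext (ConjClasses.mk_eq_mk_iff_isConj.2 (isConj_iff.2 ⟨e, rfl⟩).symm)⟩

omit hp in
theorem Aff.card_eq (h : Aff p V H) {v : X} (hv : v ∈ V) (v1 : v ≠ 1) :
    Nat.card H = (Nat.card V - 1) * Nat.card (H ⊓ centralizer {v} : Subgroup X) := by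
  let _ : MulAction H V := MulAction.compHom V ((MulAut.conjNormal (H := V)).comp H.subtype)
  have e1 : MulAction.orbit H (⟨v, hv⟩ : V) = {1}ᶜ := by
    ext w
    refine ⟨by rintro ⟨g, rfl⟩ e; exact v1 (conj_eq_one_iff.1 (congrArg Subtype.val e)), fun hw => ?_⟩
    obtain ⟨g, hg, e⟩ := h.trans v hv w w.2 v1 fun e => hw (Subtype.ext e)
    exact ⟨⟨g, hg⟩, Subtype.ext e⟩
  have e2 : MulAction.stabilizer H (⟨v, hv⟩ : V) = (centralizer {v}).subgroupOf H := by
    ext g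
    exact Subtype.ext_iff.trans (mul_inv_eq_iff_eq_mul.trans mem_centralizer_singleton_iff.symm)
  rw [← Set.ncard_singleton (1 : V), ← Set.ncard_compl, ← e1, ← MulAction.index_stabilizer, e2, inf_comm,
    ← H1.card_subgroupOf_eq, index_mul_card]

theorem Aff.affine (h : Aff p V H) (hV : Nat.card V = p) : Nonempty (X ≃* affineGroup (ZMod p)) := by
  let ε : Multiplicative (ZMod p) ≃* V := mulEquivOfPrimeCardEq (by simp) hV
  have hdec : ∀ g : X, ∃ u : V, ∃ k ∈ H, g = u * k := fun g => by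
    obtain ⟨⟨u, k⟩, e, -⟩ := h.cpl.existsUnique g
    exact ⟨u, k, k.2, e.symm⟩
  let β : V ≃ X ⧸ H := Equiv.ofBijective (fun u => ((u : X) : X ⧸ H)) ⟨fun u v e =>
    Subtype.ext (inv_mul_eq_one.1 (h.eq_one (mul_mem (inv_mem u.2) v.2) (QuotientGroup.eq.1 e))), fun y => by
      obtain ⟨g, rfl⟩ := QuotientGroup.mk_surjective y
      obtain ⟨u, k, hk, rfl⟩ := hdec g
      exact ⟨u, (QuotientGroup.mk_mul_of_mem _ hk).symm⟩⟩
  let δ : V ≃ ZMod p := ε.symm.toEquiv.trans Multiplicative.toAdd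
  have δm : ∀ u v, δ (u * v) = δ u + δ v := fun u v => by simp [δ]
  have δ1 : δ 1 = 0 := by simp [δ]
  let f : X →* Equiv.Perm (ZMod p) := (β.symm.trans δ).permCongrHom.toMonoidHom.comp (MulAction.toPermHom X (X ⧸ H))
  let a : X → ZMod p := fun k => δ (MulAut.conjNormal k (δ.symm 1))
  have ha : ∀ k v, δ (MulAut.conjNormal k v) = a k * δ v := fun k v => by
    obtain ⟨t, rfl⟩ := δ.symm.surjective v
    have := ZMod.map_smul (AddMonoidHom.mk' (fun t => δ (MulAut.conjNormal k (δ.symm t))) fun s t => by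
      rw [← δm, ← map_mul, show δ.symm (s + t) = δ.symm s * δ.symm t from δ.symm_apply_eq.2 (by simp [δm])]) t 1
    simpa [a, mul_comm] using this
  have hf : ∀ (u : V), ∀ k ∈ H, ∀ y, f (u * k) y = a k * y + δ u := by
    intro u k hk y
    obtain ⟨v, rfl⟩ := δ.surjective y
    change δ (β.symm (((u : X) * k) • β (δ.symm (δ v)))) = _
    rw [Equiv.symm_apply_apply, add_comm, ← ha, ← δm]
    refine congrArg δ (β.symm_apply_eq.2 ?_)
    change (((u : X) * k * v : X) : X ⧸ H) = ((u * (k * v * k⁻¹) : X) : X ⧸ H)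
    rw [← mul_assoc, QuotientGroup.mk_mul_of_mem _ (inv_mem hk), mul_assoc]
  have ne : ∀ c : ZMod p, c ≠ 0 → (δ.symm c : X) ≠ 1 := fun c hc e =>
    hc (by rw [← δ.apply_symm_apply c, show δ.symm c = 1 from Subtype.ext e, δ1])
  have hr : f.range = affineGroup (ZMod p) := by
    refine le_antisymm ?_ ?_
    · rintro _ ⟨g, rfl⟩
      obtain ⟨u, k, hk, rfl⟩ := hdec g
      refine ⟨Units.mk0 (a k) fun e => ?_, δ u, hf u k hk⟩
      exact one_ne_zero ((f (u * k)).injective (by rw [hf u k hk, hf u k hk, e, zero_mul, zero_mul] : _ = f _ 0))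
    · rintro σ ⟨c, b, hσ⟩
      obtain ⟨k, hk, e⟩ := h.trans _ (δ.symm 1).2 _ (δ.symm c).2 (ne _ one_ne_zero) (ne _ c.ne_zero)
      refine ⟨δ.symm b * k, Equiv.ext fun y => ?_⟩
      rw [hf _ k hk, hσ, δ.apply_symm_apply, show a k = c from (δ.symm_apply_eq.1 (Subtype.ext e.symm)).symm]
  refine ⟨(MonoidHom.ofInjective ((injective_iff_map_eq_one f).2 fun g hg => ?_)).trans (MulEquiv.subgroupCongr hr)⟩
  obtain ⟨u, k, hk, rfl⟩ := hdec g
  have h1 := hf u k hk
  simp only [hg, Equiv.Perm.one_apply] at h1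
  have h3 : δ u = 0 := by simpa using (h1 0).symm
  rw [δ.injective (h3.trans δ1.symm), h.eq_one (h.self.le fun v hv => ?_) hk]
  · simp
  · have := δ.injective ((ha k ⟨v, hv⟩).trans (by simpa [h3] using (h1 (δ ⟨v, hv⟩)).symm))
    exact (mul_inv_eq_iff_eq_mul.1 (congrArg Subtype.val this)).symm

/-- the three cases -/
theorem Aff.cases (h : Aff p V H) : p ≤ Nat.card (ConjClasses H) ∨
    (Nat.card (ConjClasses H) = p - 1 ∧ Nonempty (X ≃* affineGroup (ZMod p))) ∨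
    (p = 11 ∧ Nat.card V = 121 ∧ Nat.card H = 120 ∧ Nat.card (ConjClasses H) = 9 ∧
      (∀ v ∈ V, v ≠ 1 → ∀ k ∈ H, k * v = v * k → k = 1) ∧ Nonempty (H ≃* SL(2, ZMod 5))) := by
  have := V.nontrivial_iff_ne_bot.2 h.ne
  letI : CommGroup V := { (inferInstance : Group V) with
    mul_comm := fun a b => Subtype.ext (h.self.ge b.2 a a.2) }
  haveI : Module (ZMod p) (Additive V) := AddCommGroup.zmodModule fun x =>
    Additive.toMul.injective (Subtype.ext (h.exp _ (Additive.toMul x).2))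
  let φ : H →* MulAut V := MulAut.conjNormal.comp H.subtype
  let ρ : H →* Module.End (ZMod p) (Additive V) :=
    { toFun := fun g => (MonoidHom.toAdditive (φ g).toMonoidHom).toZModLinearMap p
      map_one' := by ext x; simp
      map_mul' := fun g g' => by ext x; simp }
  have hρ : ∀ (g : H) (u w : V), ρ g (Additive.ofMul u) = Additive.ofMul w ↔ g * (u : X) * (g : X)⁻¹ = w :=
    fun g u w => Additive.ofMul.apply_eq_iff_eq.trans Subtype.ext_iff
  have ht : TrRep ρ := ⟨(injective_iff_map_eq_one ρ).2 fun g hg => Subtype.ext (h.eq_one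
    (h.self.le fun u hu => (mul_inv_eq_iff_eq_mul.1 ((hρ g ⟨u, hu⟩ ⟨u, hu⟩).1 (by rw [hg]; rfl))).symm) g.2),
    fun u w hu hw => by
    obtain ⟨g, hg, e⟩ := h.trans _ u.toMul.2 _ w.toMul.2 (fun e => hu (Subtype.ext e)) fun e => hw (Subtype.ext e)
    exact ⟨⟨g, hg⟩, (hρ _ _ _).2 e⟩⟩
  have hq : Nat.card V = p ^ finrank (ZMod p) (Additive V) := card_V (V := Additive V)
  by_cases hn : finrank (ZMod p) (Additive V) = 1
  · have hc : ∀ a b : H, a * b = b * a := fun a b => by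
      by_contra hc
      obtain ⟨v, hv⟩ := exists_li ht.inj (x := b) fun hb => hc (mem_center_iff.1 hb a)
      have := hv.fintype_card_le_finrank
      simp [hn] at this
    obtain ⟨k, k1, -, k2, -⟩ := ht.exists_deg ⊤ (IsMulCommutative.of_setLike_mul_comm fun a _ b _ => hc a b)
    have k3 := ht.card_dvd
    rw [hn] at k1 k3 hq
    rw [Nat.dvd_one.1 k1, card_top] at k2
    exact .inr (.inl ⟨by rw [KR.card_cc_of_comm hc, Nat.dvd_antisymm k2 k3, pow_one], h.affine (by rw [hq, pow_one])⟩)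
  refine (low ht h.ndvd hn).imp_right fun ⟨h1, h2, h3, h4⟩ => .inr ?_
  rw [h2, h1] at hq
  have h5 : ∀ v ∈ V, v ≠ 1 → ∀ k ∈ H, k * v = v * k → k = 1 := fun v hv v1 k hk e => by
    have := h.card_eq hv v1
    rw [h3, hq] at this
    exact mem_bot.1 ((card_eq_one.1 (by omega)).le (mem_inf.2 ⟨hk, mem_centralizer_singleton_iff.2 e⟩))
  obtain ⟨θ, _, _, hθ⟩ := (intFPF_of_rep_zmod h.ndvd ρ fun a ha x hx => by
    by_contra x0
    exact ha (Subtype.ext (h5 _ x.toMul.2 (fun e => x0 (Subtype.ext e)) a a.2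
      (mul_inv_eq_iff_eq_mul.1 ((hρ _ _ _).1 hx))))).exists_nonSolv h4
  have : Fact (Nat.Prime 5) := ⟨Nat.prime_five⟩
  let e := MulEquiv.ofBijective θ (hθ.inj.bijective_of_nat_card_le (by rw [h3, H10.card_SL_two, Nat.card_zmod]))
  exact ⟨h1, hq, h3, le_antisymm (cc_SL25 ▸ KR.card_cc_le_of_surjective e.toMonoidHom e.surjective)
    (cc_SL25 ▸ KR.card_cc_le_of_surjective e.symm.toMonoidHom e.symm.surjective), h5, ⟨e.symm⟩⟩

end H81.TV
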